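import Cfsg.Agent.H519.Dl.Deg
import Cfsg.Agent.H113.Two.PsuChars
import Cfsg.Agent.H696.PSq.Defs

/-!
# S4844, unitary groups: arithmetic and the generic cases (helper279)

`p` an odd prime, not the characteristic, `p ^ 2` divides the order of `PSU_n(q)`, `n ≥ 4`.
`gen_case` : all cases but `n = 4, 5` with `p ∣ q - 1` and `n = 7` with `p ∣ q ^ 2 - q + 1`.
-/

set_option autoImplicit false

namespace Cfsg.Agent.H279.Sq

open Cfsg Cfsg.Agent.H113.PSU.Levi Cfsg.Agent.H113.PSU.Facts Cfsg.Agent.H519.Dl Cfsg.Agent.H477.HC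

universe u

section Arith

variable {q p : ℕ}

/-- shift of the index -/
theorem dvd_add_iff (hq : 1 ≤ q) {i j : ℕ} (hi : p ∣ uu q i) : p ∣ uu q (i + j) ↔ p ∣ uu q j := by
  have h1 : ((uu q (i + j) : ℕ) : ℤ) = (uu q i : ℤ) * (q : ℤ) ^ j + (-1) ^ i * (uu q j : ℤ) := by
    rw [uu_cast hq, uu_cast hq, uu_cast hq]
    ring
  have h2 : ((p : ℕ) : ℤ) ∣ (uu q i : ℤ) * (q : ℤ) ^ j := (Int.natCast_dvd_natCast.2 hi).mul_right _
  rw [← Int.natCast_dvd_natCast, h1, dvd_add_right h2, ← Int.natCast_dvd_natCast]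
  rcases neg_one_pow_eq_or ℤ i with h | h <;> rw [h]
  · rw [one_mul]
  · rw [neg_one_mul, dvd_neg]

theorem uu_one : uu q 1 = q + 1 := by
  unfold uu
  rw [if_neg (by decide), pow_one]

theorem uu_two : uu q 2 = q ^ 2 - 1 := by
  unfold uu
  rw [if_pos (by decide)]

theorem uu_zero : uu q 0 = 0 := by
  unfold uu
  rw [if_pos (by decide), pow_zero, Nat.sub_self]

theorem uu_three : uu q 3 = q ^ 3 + 1 := by
  unfold uu
  rw [if_neg (by decide)]

/-- doubling -/
theorem dvd_two_mul (hq : 1 ≤ q) {i : ℕ} (hi : p ∣ uu q i) : p ∣ uu q (2 * i) := by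
  rw [two_mul, dvd_add_iff hq hi]
  exact hi

/-- removal of a factor -/
theorem sq_dvd_of_mul (hp : p.Prime) {a b : ℕ} (ha : ¬ p ∣ a) (h : p ^ 2 ∣ a * b) : p ^ 2 ∣ b :=
  (Nat.Coprime.pow_left 2 ((Nat.Prime.coprime_iff_not_dvd hp).2 ha)).dvd_of_dvd_mul_left h

theorem sq_dvd_of_mul' (hp : p.Prime) {a b : ℕ} (ha : ¬ p ∣ b) (h : p ^ 2 ∣ a * b) : p ^ 2 ∣ a := by
  rw [mul_comm] at h
  exact sq_dvd_of_mul hp ha h

theorem not_dvd_prod (hp : p.Prime) {f : ℕ → ℕ} {N : ℕ} (h : ∀ i < N, ¬ p ∣ f i) : ¬ p ∣ ∏ i ∈ Finset.range N, f i := by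
  intro h1
  obtain ⟨i, hi, hi'⟩ := (Prime.dvd_finsetProd_iff hp.prime _).1 h1
  exact h i (Finset.mem_range.1 hi) hi'

/-- the square divides the product of two entries -/
theorem sq_dvd_prod {f : ℕ → ℕ} {N i j : ℕ} (hi : i < N) (hj : j < N) (hij : i ≠ j) (h1 : p ∣ f i) (h2 : p ∣ f j) :
    p ^ 2 ∣ ∏ i ∈ Finset.range N, f i := by
  rw [← Finset.mul_prod_erase _ _ (Finset.mem_range.2 hi),
    ← Finset.mul_prod_erase _ _ (Finset.mem_erase.2 ⟨hij.symm, Finset.mem_range.2 hj⟩), pow_two, ← mul_assoc]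
  exact (Nat.mul_dvd_mul h1 h2).mul_right _

end Arith

section Chars

variable {F : Type u} [Field F] [Fintype F] {q n p : ℕ}

/-- the order, `p ∤ q (q + 1)` -/
theorem order_dvd (hF : Fintype.card F = q ^ 2) (hn : 2 ≤ n) (hp : p.Prime) (hpq : ¬ p ∣ q)
    (hd : p ^ 2 ∣ Nat.card (PSU n F q)) : p ^ 2 ∣ ∏ i ∈ Finset.range n, uu q (i + 1) := by
  have h1 := Cfsg.Agent.S0280.result hF n hn
  have h2 : p ^ 2 ∣ q ^ (n * (n - 1) / 2) * ∏ i ∈ Finset.range n, (if Even i then q ^ (i + 1) + 1 else q ^ (i + 1) - 1) := by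
    rw [← h1]
    exact (hd.mul_left _).mul_left _
  have h3 := sq_dvd_of_mul hp (fun h => hpq (hp.dvd_of_dvd_pow h)) h2
  refine h3.trans (dvd_of_eq (Finset.prod_congr rfl fun i _ => ?_))
  unfold uu
  by_cases h : Even i
  · rw [if_pos h, if_neg (by rw [Nat.even_add_one, not_not]; exact h)]
  · rw [if_neg h, if_pos (by rw [Nat.even_add_one]; exact h)]

/-- the product over `[2, 2 k)` divides the degree -/
theorem prod_dvd_deg (hF : Fintype.card F = q ^ 2) (hq : Nat.card F = q ^ 2) (hq2 : 2 ≤ q) {k : ℕ} (hk0 : 0 < k)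
    (hk : 2 * k ≤ n) {e t : ℕ} (he : e * t = dg (CForm.hermF F hq n) k) (ht : t ∣ q + 1) :
    ∏ i ∈ Finset.range (2 * k - 2), uu q (i + 2) ∣ e := by
  obtain ⟨c, hc⟩ := prod_dvd (show 1 ≤ q by omega) (2 * k) (n - 2 * k)
  rw [← dg_mul hF hq hk0 hk] at hc
  obtain ⟨k, rfl⟩ : ∃ k', k = k' + 1 := ⟨k - 1, by omega⟩
  rw [show 2 * (k + 1) = 2 * k + 1 + 1 by ring, Finset.prod_range_succ] at hc
  have hpos : 0 < uu q (2 * k + 1 + 1) := uu_pos hq2 (by omega)
  have h1 : dg (CForm.hermF F hq n) (k + 1) = (∏ i ∈ Finset.range (2 * k + 1), uu q (i + 1)) * c := by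
    apply Nat.eq_of_mul_eq_mul_right hpos
    rw [hc]; ring
  rw [Finset.prod_range_succ', show uu q (0 + 1) = q + 1 by rw [zero_add, uu_one], ← he] at h1
  obtain ⟨v, hv⟩ := ht
  have ht0 : 0 < t := by
    rcases Nat.eq_zero_or_pos t with h0 | h0
    · rw [h0, zero_mul] at hv; omega
    · exact h0
  refine ⟨v * c, ?_⟩
  apply Nat.eq_of_mul_eq_mul_right ht0
  rw [h1, hv, show 2 * (k + 1) - 2 = 2 * k by omega]
  ring

/-- **two entries below `2 k`** -/
theorem im_of_prod (hF : Fintype.card F = q ^ 2) (hn : 3 ≤ n) {k : ℕ} (hk : 2 ≤ k) (hkn : 2 * k ≤ n)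
    (h : p ^ 2 ∣ ∏ i ∈ Finset.range (2 * k - 2), uu q (i + 2)) : H33.IM (p ^ 2) (PSU n F q) := by
  have hq : Nat.card F = q ^ 2 := by rw [Nat.card_eq_fintype_card, hF]
  obtain ⟨η, e, t, h1, h2, h3, h4⟩ := exists_ek hF hq hn hk hkn
  exact H33.IM.of_apply_one h1 h2 (h.trans (prod_dvd_deg hF hq (LieClassical.HermBasic.two_le hF) (by omega) hkn h4 h3))

/-- **the full Levi degree** -/
theorem im_of_window (hF : Fintype.card F = q ^ 2) (hn : 3 ≤ n) {k : ℕ} (hk : 2 ≤ k) (hkn : 2 * k ≤ n)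
    (hp : p.Prime) (hpq : ¬ p ∣ q) (hp1 : ¬ p ∣ q + 1) (h1 : ∀ i < n - 2 * k, ¬ p ∣ uu q (i + 1))
    (h2 : ¬ p ∣ uu q (2 * k)) (hd : p ^ 2 ∣ Nat.card (PSU n F q)) : H33.IM (p ^ 2) (PSU n F q) := by
  have hq : Nat.card F = q ^ 2 := by rw [Nat.card_eq_fintype_card, hF]
  obtain ⟨η, e, t, h3, h4, h5, h6⟩ := exists_ek hF hq hn hk hkn
  have h7 := order_dvd hF (by omega) hp hpq hd
  rw [show Finset.range n = Finset.range (n - 2 * k + 2 * k) by congr 1; omega, Finset.prod_range_add] at h7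
  have h8 := sq_dvd_of_mul hp (not_dvd_prod hp h1) h7
  rw [← dg_mul hF hq (by omega) hkn, ← h6] at h8
  have h9 := sq_dvd_of_mul' hp h2 h8
  exact H33.IM.of_apply_one h3 h4 (sq_dvd_of_mul' hp (fun h => hp1 (h.trans h5)) h9)

/-- **`p ∣ q + 1`** -/
theorem case_one (hF : Fintype.card F = q ^ 2) (hn : 4 ≤ n) (hp1 : p ∣ q + 1) : H33.IM (p ^ 2) (PSU n F q) := by
  have hq2 := LieClassical.HermBasic.two_le hF
  refine im_of_prod hF (by omega) (k := 2) le_rfl (by omega) ?_
  exact sq_dvd_prod (i := 0) (j := 1) (by omega) (by omega) (by omega) (hp1.trans (succ_dvd_uu (by omega) _))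
    (hp1.trans (succ_dvd_uu (by omega) _))

/-- **`n ≥ 6`, `p ∣ uu 2`** -/
theorem case_two (hF : Fintype.card F = q ^ 2) (hn : 6 ≤ n) (hp2 : p ∣ uu q 2) : H33.IM (p ^ 2) (PSU n F q) := by
  have hq2 := LieClassical.HermBasic.two_le hF
  refine im_of_prod hF (by omega) (k := 3) (by omega) (by omega) ?_
  exact sq_dvd_prod (i := 0) (j := 2) (by omega) (by omega) (by omega) hp2 (dvd_two_mul (i := 2) (by omega) hp2)

/-- **`n` even, `n ≥ 4`, `p ∤ uu 2`** -/
theorem case_even (hF : Fintype.card F = q ^ 2) (hn : 4 ≤ n) (he : Even n) (hp : p.Prime) (hpq : ¬ p ∣ q)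
    (hp2 : ¬ p ∣ uu q 2) (hd : p ^ 2 ∣ Nat.card (PSU n F q)) : H33.IM (p ^ 2) (PSU n F q) := by
  have hq2 := LieClassical.HermBasic.two_le hF
  have hp1 : ¬ p ∣ q + 1 := fun h => hp2 (h.trans (succ_dvd_uu (by omega) 2))
  obtain ⟨m, hm⟩ := he
  by_cases h : p ∣ uu q n
  · rcases Nat.lt_or_ge n 6 with h6 | h6
    · have h4 : n = 4 := by omega
      subst h4
      obtain ⟨φ, hφ⟩ := exF (F := F) hF le_rfl
      refine ⟨φ, ?_⟩
      have h7 := order_dvd hF (by omega) hp hpq hd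
      have h8 : ∏ i ∈ Finset.range 4, uu q (i + 1) = (uu q 1 * uu q 2 * uu q 3) * uu q 4 := by
        simp [Finset.prod_range_succ]
      have h3 : ¬ p ∣ uu q 3 := by
        intro h3
        have h5 : p ∣ uu q (3 + 1) := h
        rw [dvd_add_iff (by omega) h3, uu_one] at h5
        exact hp1 h5
      have h9 : p ^ 2 ∣ uu q 4 := by
        refine sq_dvd_of_mul hp ?_ (h8 ▸ h7)
        rw [hp.dvd_mul, hp.dvd_mul]
        rintro ((h5 | h5) | h5)
        · rw [uu_one] at h5; exact hp1 h5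
        · exact hp2 h5
        · exact h3 h5
      have h10 : p ^ 2 ∣ ((q ^ 2 - 1) * (q + 1)) * charDegree (φ : PSU 4 F q → ℂ) := by
        rw [hφ]
        exact (h9.mul_left _).mul_right _
      refine sq_dvd_of_mul hp ?_ h10
      rw [hp.dvd_mul]
      rintro (h5 | h5)
      · rw [← uu_two] at h5; exact hp2 h5
      · exact hp1 h5
    · refine im_of_window hF (by omega) (k := m - 1) (by omega) (by omega) hp hpq hp1 ?_ ?_ hd
      · intro i hi
        have : i = 0 ∨ i = 1 := by omega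
        rcases this with rfl | rfl
        · rw [zero_add, uu_one]; exact hp1
        · exact hp2
      · intro h5
        have h6 : p ∣ uu q (2 * (m - 1) + 2) := by
          rw [show 2 * (m - 1) + 2 = n by omega]; exact h
        rw [dvd_add_iff (by omega) h5] at h6
        exact hp2 h6
  · refine im_of_window hF (by omega) (k := m) (by omega) (by omega) hp hpq hp1 ?_ ?_ hd
    · intro i hi
      omega
    · rwa [show 2 * m = n by omega]

/-- **`n` odd, `n ≥ 5`, `p ∤ uu 2`**, but for `n = 7`, `p ∣ uu 3` -/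
theorem case_odd (hF : Fintype.card F = q ^ 2) (hn : 5 ≤ n) (he : Odd n) (hp : p.Prime) (hpq : ¬ p ∣ q)
    (hp2 : ¬ p ∣ uu q 2) (hd : p ^ 2 ∣ Nat.card (PSU n F q)) (h7 : ¬ (n = 7 ∧ p ∣ uu q 3)) :
    H33.IM (p ^ 2) (PSU n F q) := by
  have hq2 := LieClassical.HermBasic.two_le hF
  have hp1 : ¬ p ∣ q + 1 := fun h => hp2 (h.trans (succ_dvd_uu (by omega) 2))
  obtain ⟨m, hm⟩ := he
  by_cases h : p ∣ uu q (n - 1)
  · rcases Nat.lt_or_ge n 7 with h6 | h6
    · have h4 : n = 5 := by omega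
      subst h4
      obtain ⟨φ, hφ⟩ := exG (F := F) (q := q) (n := 5) hF (by omega)
      refine ⟨φ, ?_⟩
      have h7 := order_dvd hF (by omega) hp hpq hd
      have h8 : ∏ i ∈ Finset.range 5, uu q (i + 1) = (uu q 1 * uu q 2 * uu q 3 * uu q 5) * uu q 4 := by
        simp only [Finset.prod_range_succ, Finset.prod_range_zero]
        ring
      have h3 : ¬ p ∣ uu q 3 := by
        intro h3
        have h5 : p ∣ uu q (3 + 1) := h
        rw [dvd_add_iff (by omega) h3, uu_one] at h5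
        exact hp1 h5
      have h5 : ¬ p ∣ uu q 5 := by
        intro h3
        have h5 : p ∣ uu q 4 := h
        rw [show 5 = 4 + 1 by norm_num, dvd_add_iff (by omega) h5, uu_one] at h3
        exact hp1 h3
      have h9 : p ^ 2 ∣ uu q 4 := by
        refine sq_dvd_of_mul hp ?_ (h8 ▸ h7)
        rw [hp.dvd_mul, hp.dvd_mul, hp.dvd_mul]
        rintro (((h5 | h5) | h5) | h5)
        · rw [uu_one] at h5; exact hp1 h5
        · exact hp2 h5
        · exact h3 h5
        · contradiction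
      have h10 : p ^ 2 ∣ ((q ^ 2 - 1) * (q + 1)) * charDegree (φ : PSU 5 F q → ℂ) := by
        rw [hφ]
        exact (h9.mul_left _).mul_right _
      refine sq_dvd_of_mul hp ?_ h10
      rw [hp.dvd_mul]
      rintro (h5 | h5)
      · rw [← uu_two] at h5; exact hp2 h5
      · exact hp1 h5
    · by_cases h3 : p ∣ uu q 3
      · -- `n ≥ 13`
        have h13 : 13 ≤ n := by
          have hred : ∀ k r : ℕ, p ∣ uu q (3 * k + r) ↔ p ∣ uu q r := by
            intro k r
            induction k with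
            | zero => rw [mul_zero, zero_add]
            | succ k ih => rw [show 3 * (k + 1) + r = 3 + (3 * k + r) by ring, dvd_add_iff (by omega) h3, ih]
          have h5 : p ∣ uu q (3 * ((n - 1) / 3) + (n - 1) % 3) := by
            rwa [Nat.div_add_mod]
          rw [hred] at h5
          have h6 : (n - 1) % 3 < 3 := Nat.mod_lt _ (by norm_num)
          have h8 : (n - 1) % 3 = 0 := by
            have h9 : (n - 1) % 3 ≠ 1 := by
              intro h9
              rw [h9, uu_one] at h5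
              exact hp1 h5
            have h10 : (n - 1) % 3 ≠ 2 := by
              intro h9
              rw [h9] at h5
              exact hp2 h5
            omega
          have h9 : n ≠ 7 := fun h9 => h7 ⟨h9, h3⟩
          omega
        refine im_of_prod hF (by omega) (k := 4) (by omega) (by omega) ?_
        exact sq_dvd_prod (i := 1) (j := 4) (by omega) (by omega) (by omega) h3 (dvd_two_mul (i := 3) (by omega) h3)
      · refine im_of_window hF (by omega) (k := m - 1) (by omega) (by omega) hp hpq hp1 ?_ ?_ hd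
        · intro i hi
          have : i = 0 ∨ i = 1 ∨ i = 2 := by omega
          rcases this with rfl | rfl | rfl
          · rw [zero_add, uu_one]; exact hp1
          · exact hp2
          · exact h3
        · intro h5
          have h6 : p ∣ uu q (2 * (m - 1) + 2) := by
            rw [show 2 * (m - 1) + 2 = n - 1 by omega]; exact h
          rw [dvd_add_iff (by omega) h5] at h6
          exact hp2 h6
  · refine im_of_window hF (by omega) (k := m) (by omega) (by omega) hp hpq hp1 ?_ ?_ hd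
    · intro i hi
      have : i = 0 := by omega
      subst this
      rw [zero_add, uu_one]; exact hp1
    · rwa [show 2 * m = n - 1 by omega]

/-- **the generic cases** : it remains `n = 4, 5` with `p ∥ q - 1` and `n = 7` with `p ∥ q ^ 2 - q + 1` -/
theorem gen_case (hF : Fintype.card F = q ^ 2) (hn : 4 ≤ n) (hp : p.Prime) (hpq : ¬ p ∣ q)
    (hd : p ^ 2 ∣ Nat.card (PSU n F q))
    (h45 : (n = 4 ∨ n = 5) → p ∣ q - 1 → ¬ p ∣ q + 1 → H33.IM (p ^ 2) (PSU n F q))
    (h7 : n = 7 → p ∣ uu q 3 → ¬ p ∣ uu q 2 → H33.IM (p ^ 2) (PSU n F q)) :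
    H33.IM (p ^ 2) (PSU n F q) := by
  have hq2 := LieClassical.HermBasic.two_le hF
  by_cases hp1 : p ∣ q + 1
  · exact case_one hF hn hp1
  by_cases hp2 : p ∣ uu q 2
  · rcases Nat.lt_or_ge n 6 with h6 | h6
    · refine h45 (by omega) ?_ hp1
      rw [uu_two, Cfsg.Agent.H113.PSU.Facts.sq_sub (q := q) (by omega), hp.dvd_mul] at hp2
      exact hp2.resolve_right hp1
    · exact case_two hF h6 hp2
  · rcases Nat.even_or_odd n with he | ho
    · exact case_even hF hn he hp hpq hp2 hd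
    · by_cases h : n = 7 ∧ p ∣ uu q 3
      · exact h7 h.1 h.2 hp2
      · refine case_odd hF ?_ ho hp hpq hp2 hd h
        obtain ⟨m, hm⟩ := ho
        omega

end Chars

end Cfsg.Agent.H279.Sq
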