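import Cfsg.Agent.H279.Sq.FourGrp
import Cfsg.Agent.H431.ExcChar
import Cfsg.Agent.S0165
import Cfsg.Agent.CharDeep.PowerDegrees
import Cfsg.Agent.H670.PSing
import Cfsg.Agent.S0148

/-!
# A generalized character of norm at most four (helper279)

`G` a group of order `|PSU_4(4)| = 2^12 3^2 5^3 13 17`; `x` an element of order 13 with abelian centralizer `T`,
`|N(⟨x⟩)| ≤ 3 |T|`; `Θ` the induced of `1_T - θ`; with the rank 3 character of degree 272 it follows that 9 divides a degree.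
-/

set_option autoImplicit false

open scoped ComplexConjugate
open Subgroup Cfsg
open Cfsg.Agent.H113.Cusp.Exc Cfsg.Agent.OddOrderCharacters.Clifford Cfsg.Agent.Characters
open Cfsg.Agent.Characters.Core

namespace Cfsg.Agent.H279.Sq.UFour

/-! ### The arithmetic -/

/-- the test of the pairs -/
def tst (a : ℕ) : Bool :=
  !(decide (51 ≤ a) && decide (a ∣ 78336000) && !decide (9 ∣ a)) ||
    (!(decide (51 ≤ 271 - a) && decide (271 - a ∣ 78336000) && !decide (9 ∣ 271 - a)) &&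
      !(decide (a + 271 ∣ 78336000) && !decide (9 ∣ a + 271)))

def tsts : ℕ → Bool
  | 0 => true
  | n + 1 => tst n && tsts n

theorem tsts_spec (n : ℕ) (h : tsts n = true) : ∀ a < n, tst a = true := by
  induction n with
  | zero => intro a ha; omega
  | succ n ih =>
    rw [tsts, Bool.and_eq_true] at h
    intro a ha
    rcases Nat.lt_succ_iff_lt_or_eq.1 ha with h1 | rfl
    · exact ih h.2 a h1
    · exact h.1

set_option maxRecDepth 100000 in
theorem tsts_all : tsts 31912 = true := by decide +kernel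

theorem no_pair {a b : ℕ} (ha : 51 ≤ a) (ha2 : a < 31912) (ha3 : a ∣ 78336000) (ha9 : ¬ 9 ∣ a)
    (hb : 51 ≤ b) (hb3 : b ∣ 78336000) (hb9 : ¬ 9 ∣ b) : a + b ≠ 271 ∧ b ≠ a + 271 := by
  have h := tsts_spec _ tsts_all a ha2
  constructor
  · intro h1
    have h2 : b = 271 - a := by omega
    subst h2
    simp [tst, ha, ha3, ha9, hb, hb3, hb9] at h
  · rintro rfl
    simp [tst, ha, ha3, ha9, hb3, hb9] at h

/-! ### The generalized character -/

section chars

variable {G : Type*} [Group G] {T N B : Subgroup G}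

theorem cj_one_right (h : Tor T N B) (x : N) : h.cj x (1 : T →* ℂˣ) = 1 := by
  ext t
  rfl

theorem cj_eq_one (h : Tor T N B) {x : N} {θ : T →* ℂˣ} (h1 : h.cj x θ = 1) : θ = 1 := by
  have h2 : h.cj x⁻¹ (h.cj x θ) = θ := by rw [← h.cj_mul, inv_mul_cancel, h.cj_one]
  rw [← h2, h1, cj_one_right]

open scoped Classical in
/-- the norm -/
theorem norm_theta (h : Tor T N B) [Fintype G] [Fintype T] [Fintype N] {θ : T →* ℂˣ}
    (hB : ∀ t : T, (t : G) ∈ B → θ t = 1) (h1 : θ ≠ 1) (hreg : ∀ n : N, h.cj n θ = θ → (n : G) ∈ T) :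
    classInner (indFun T (lin (1 : T →* ℂˣ) - lin θ)) (indFun T (lin (1 : T →* ℂˣ) - lin θ)) =
      (Nat.card T : ℂ)⁻¹ * (Nat.card N + Nat.card T) := by
  rw [h.inner_ind (θ := 1) (θ' := θ) (η := 1) (η' := θ) (fun t ht => by rw [hB t ht]; rfl)]
  congr 1
  rw [Finset.sum_add_distrib, Finset.sum_sub_distrib, Finset.sum_sub_distrib, h.sum_reg hreg]
  have e1 : ∑ x : N, (if (1 : T →* ℂˣ) = h.cj x 1 then (1 : ℂ) else 0) = Nat.card N := by
    rw [Finset.sum_congr rfl fun x _ => if_pos (cj_one_right h x).symm, Finset.sum_const, Finset.card_univ,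
      Nat.card_eq_fintype_card, nsmul_eq_mul, mul_one]
  have e2 : ∑ x : N, (if (1 : T →* ℂˣ) = h.cj x θ then (1 : ℂ) else 0) = 0 :=
    Finset.sum_eq_zero fun x _ => if_neg fun he => h1 (cj_eq_one h he.symm)
  have e3 : ∑ x : N, (if θ = h.cj x (1 : T →* ℂˣ) then (1 : ℂ) else 0) = 0 :=
    Finset.sum_eq_zero fun x _ => if_neg fun he => h1 (by rw [he, cj_one_right])
  rw [e1, e2, e3]
  ring

/-- inner products with characters constant on `T \ B` -/
theorem inner_theta [Fintype G] [Fintype T] {θ : T →* ℂˣ} (hB : ∀ t : T, (t : G) ∈ B → θ t = 1) (h1 : θ ≠ 1)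
    {χ : G → ℂ} (hχ : IsIrrCharacter G χ) {c : ℂ} (hc : ∀ t : T, (t : G) ∉ B → χ t = c) :
    classInner (indFun T (lin (1 : T →* ℂˣ) - lin θ)) χ = conj c := by
  classical
  rw [classInner_indFun T _ χ (isIrr_isClassFunction hχ)]
  have e1 : classInner (lin (1 : T →* ℂˣ) - lin θ) (fun t : T => χ t) =
      conj c * classInner (lin (1 : T →* ℂˣ) - lin θ) (lin (1 : T →* ℂˣ)) := by
    rw [classInner_def, classInner_def, mul_left_comm]
    refine congrArg ((Nat.card T : ℂ)⁻¹ * ·) ?_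
    rw [Finset.mul_sum]
    refine Finset.sum_congr rfl fun t _ => ?_
    by_cases ht : (t : G) ∈ B
    · have : (lin (1 : T →* ℂˣ) - lin θ) t = 0 := by
        rw [Pi.sub_apply]
        unfold lin
        rw [hB t ht]
        exact sub_self _
      rw [this, zero_mul, zero_mul, mul_zero]
    · rw [hc t ht]
      have : lin (1 : T →* ℂˣ) t = 1 := rfl
      rw [this, map_one, mul_one, mul_comm]
  rw [e1, classInner_sub_left, inner_lin, inner_lin, if_pos rfl, if_neg h1, sub_zero, mul_one]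

theorem indFun_sub [Fintype G] (θ η : T →* ℂˣ) : indFun T (lin θ - lin η) = indFun T (lin θ) - indFun T (lin η) := by
  classical
  funext g
  rw [Pi.sub_apply, Core.indFun_apply, Core.indFun_apply, Core.indFun_apply, ← mul_sub, ← Finset.sum_sub_distrib]
  congr 1
  refine Finset.sum_congr rfl fun x _ => ?_
  by_cases hx : x⁻¹ * g * x ∈ T
  · rw [ext_apply_mem T _ _ hx, ext_apply_mem T _ _ hx, ext_apply_mem T _ _ hx]
    rfl
  · rw [ext_apply_not_mem T _ _ hx, ext_apply_not_mem T _ _ hx, ext_apply_not_mem T _ _ hx, sub_zero]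

theorem ind_one [Fintype G] (θ : T →* ℂˣ) : indFun T (lin (1 : T →* ℂˣ) - lin θ) 1 = 0 := by
  rw [Core.indFun_apply, Finset.sum_eq_zero, mul_zero]
  intro y _
  have h2 : y⁻¹ * 1 * y ∈ T := by rw [mul_one, inv_mul_cancel]; exact T.one_mem
  rw [ext_apply_mem T _ _ h2]
  have h3 : (⟨y⁻¹ * 1 * y, h2⟩ : T) = 1 := Subtype.ext (by
    change y⁻¹ * 1 * y = 1
    rw [mul_one, inv_mul_cancel])
  rw [h3, Pi.sub_apply]
  unfold lin
  rw [map_one, map_one, sub_self]

/-- vanishing of characters of degree divisible by 13 -/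
theorem van [Finite G] (h13 : 13 ∣ Nat.card G) (h169 : ¬ 13 ^ 2 ∣ Nat.card G) {χ : G → ℂ} (hχ : IsIrrCharacter G χ)
    (hd : 13 ∣ charDegree χ) {x : G} (hx : 13 ∣ orderOf x) : χ x = 0 := by
  have h1 := Blocks.Basic.irr_one_eq_charDegree hχ
  obtain ⟨n, ρ, hρ, rfl⟩ := hχ
  refine Cfsg.Agent.S0165.result ρ 13 1 (by norm_num) (by rwa [pow_one]) h169 ?_ x hx
  rw [pow_one]
  have h2 : ρ.character 1 = _ := Representation.char_one ρ
  rw [h1] at h2
  have h3 : charDegree ρ.character = Module.finrank ℂ (Fin n → ℂ) := by exact_mod_cast h2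
  rw [← h3]
  exact hd

theorem charDegree_sq_le [Finite G] (χ : IrrCharacter G) : charDegree (χ : G → ℂ) ^ 2 ≤ Nat.card G := by
  classical
  have hfin : Finite (IrrCharacter G) := Core.finite_irr
  have := Fintype.ofFinite (IrrCharacter G)
  have hsq : ∑ χ : IrrCharacter G, charDegree (χ : G → ℂ) ^ 2 = Nat.card G := by
    have h := Cfsg.Agent.CharDeep.PowerDegrees.sum_sq (G := G)
    have h2 : ∑ χ : IrrCharacter G, (χ : G → ℂ) 1 ^ 2 =
        ((∑ χ : IrrCharacter G, charDegree (χ : G → ℂ) ^ 2 : ℕ) : ℂ) := by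
      push_cast
      refine Finset.sum_congr rfl fun χ _ => ?_
      rw [Cfsg.Agent.Blocks.Basic.irr_one_eq_charDegree χ.2]
    rw [h2] at h
    exact_mod_cast h
  rw [← hsq]
  exact Finset.single_le_sum (f := fun χ : IrrCharacter G => charDegree (χ : G → ℂ) ^ 2)
    (fun _ _ => Nat.zero_le _) (Finset.mem_univ χ)

/-- **9 divides a degree**, with the torus data -/
theorem main_of [Finite G] (hG : Nat.card G = 1018368000) (h : Tor T N B) (hN : Nat.card N ≤ 3 * Nat.card T)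
    (θ : T →* ℂˣ) (hθB : ∀ t : T, (t : G) ∈ B → θ t = 1) (hθ1 : θ ≠ 1)
    (hreg : ∀ n : N, h.cj n θ = θ → (n : G) ∈ T) (hsing : ∀ t ∈ T, t ∉ B → 13 ∣ orderOf t)
    (hmin : ∀ χ : IrrCharacter G, (χ : G → ℂ) ≠ 1 → 51 ≤ charDegree (χ : G → ℂ))
    (α β : IrrCharacter G) (hα : (α : G → ℂ) 1 = (272 : ℕ)) (hβ : (β : G → ℂ) 1 = (832 : ℕ))
    (hfix : ∀ t ∈ T, t ∉ B → 1 + (α : G → ℂ) t + (β : G → ℂ) t = 0) :
    ∃ χ : IrrCharacter G, 9 ∣ charDegree (χ : G → ℂ) := by
  classical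
  by_contra hcon
  push Not at hcon
  have := Fintype.ofFinite G
  have : Finite (IrrCharacter G) := finite_irr
  let _ : Fintype (IrrCharacter G) := Fintype.ofFinite _
  have h13 : 13 ∣ Nat.card G := by rw [hG]; norm_num
  have h169 : ¬ 13 ^ 2 ∣ Nat.card G := by rw [hG]; norm_num
  have : Fintype T := Fintype.ofFinite T
  have : Fintype N := Fintype.ofFinite N
  obtain ⟨Θ, hΘ⟩ : ∃ Θ, Θ = indFun T (lin (1 : T →* ℂˣ) - lin θ) := ⟨_, rfl⟩
  -- norm
  obtain ⟨e, he⟩ : Nat.card T ∣ Nat.card N := card_dvd_of_le h.le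
  have hT0 : 0 < Nat.card T := Nat.card_pos
  have he3 : e ≤ 3 := by
    rw [he, mul_comm] at hN
    exact Nat.le_of_mul_le_mul_right hN hT0
  have hnorm : classInner Θ Θ = ((e + 1 : ℤ) : ℂ) := by
    rw [hΘ, norm_theta h hθB hθ1 hreg, he]
    have : (Nat.card T : ℂ) ≠ 0 := Nat.cast_ne_zero.2 hT0.ne'
    push_cast
    field_simp
  -- generalized character
  have hchar : ∀ η : T →* ℂˣ, IsCharacter G (indFun T (lin η)) := fun η =>
    Cfsg.Agent.S0148.result T _ (Core.isIrr_isCharacter (H595.Central.isIrr_hom η))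
  have hgen : IsGeneralizedCharacter G Θ := ⟨_, _, hchar 1, hchar θ, by rw [hΘ, indFun_sub]⟩
  obtain ⟨m, hm⟩ := isGeneralizedCharacter_iff.1 hgen
  have hinner : ∀ χ : IrrCharacter G, classInner Θ (χ : G → ℂ) = m χ := fun χ => by
    rw [hm]
    exact classInner_sum_zsmul_irr m χ
  obtain ⟨m', hm1, hm2⟩ := H431.ExcChar.bessel hgen hnorm (fun χ : IrrCharacter G => (χ : G → ℂ)) (fun χ => χ.2)
    Subtype.val_injective
  have hmm : ∀ χ, m' χ = m χ := fun χ => by
    have := hm1 χ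
    rw [hinner] at this
    exact_mod_cast this.symm
  have hsq : ∑ χ, m χ ^ 2 ≤ 4 := by
    have e1 : ∑ χ, m χ ^ 2 = ∑ χ, m' χ ^ 2 := Finset.sum_congr rfl fun χ _ => by rw [hmm χ]
    rw [e1]
    refine hm2.trans ?_
    have : (e : ℤ) ≤ 3 := by exact_mod_cast he3
    omega
  -- the degree
  have hzero : ∑ χ, m χ * (charDegree (χ : G → ℂ) : ℤ) = 0 := by
    have h1 : Θ 1 = 0 := by rw [hΘ]; exact ind_one θ
    rw [hm, Finset.sum_apply] at h1
    have h2 : ∀ χ : IrrCharacter G, (m χ • (χ : G → ℂ)) 1 = ((m χ * (charDegree (χ : G → ℂ) : ℤ) : ℤ) : ℂ) := by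
      intro χ
      rw [Pi.smul_apply, zsmul_eq_mul, Blocks.Basic.irr_one_eq_charDegree χ.2]
      push_cast
      ring
    rw [Finset.sum_congr rfl fun χ _ => h2 χ, ← Int.cast_sum] at h1
    exact_mod_cast h1
  have hm0 : ∀ χ : IrrCharacter G, 13 ∣ charDegree (χ : G → ℂ) → m χ = 0 := by
    intro χ hχ
    have h1 := inner_theta (T := T) (B := B) hθB hθ1 χ.2 (c := 0)
      (fun t ht => van h13 h169 χ.2 hχ (hsing t t.2 ht))
    rw [← hΘ, hinner, map_zero] at h1
    exact_mod_cast h1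
  let o : IrrCharacter G := ⟨1, isIrr_one⟩
  have hmo : m o = 1 := by
    have h1 := inner_theta (T := T) (B := B) hθB hθ1 o.2 (c := 1) (fun t ht => rfl)
    rw [← hΘ, hinner, map_one] at h1
    exact_mod_cast h1
  have hdα : charDegree (α : G → ℂ) = 272 := H670.PSing.charDegree_eq_of hα
  have hdβ : charDegree (β : G → ℂ) = 832 := H670.PSing.charDegree_eq_of hβ
  have hdo : charDegree (o : G → ℂ) = 1 := H670.PSing.charDegree_eq_of (by
    change (1 : ℂ) = ((1 : ℕ) : ℂ)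
    rw [Nat.cast_one])
  have hmα : m α = -1 := by
    have h1 := inner_theta (T := T) (B := B) hθB hθ1 α.2 (c := -1) (fun t ht => by
      have h2 := hfix t t.2 ht
      have h3 : (β : G → ℂ) t = 0 := van h13 h169 β.2 (by rw [hdβ]; norm_num) (hsing t t.2 ht)
      rw [h3, add_zero] at h2
      linear_combination h2)
    rw [← hΘ, hinner, map_neg, map_one] at h1
    exact_mod_cast h1
  have hαo : α ≠ o := by
    intro h1
    rw [h1, hdo] at hdα
    exact absurd hdα (by norm_num)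
  -- the rest
  let R : Finset (IrrCharacter G) := (Finset.univ.erase o).erase α
  have hsplit : ∀ f : IrrCharacter G → ℤ, ∑ χ, f χ = f o + (f α + ∑ χ ∈ R, f χ) := by
    intro f
    rw [← Finset.add_sum_erase _ _ (Finset.mem_univ o), ← Finset.add_sum_erase _ _ (Finset.mem_erase.2 ⟨hαo, Finset.mem_univ α⟩)]
  have hR2 : ∑ χ ∈ R, m χ ^ 2 ≤ 2 := by
    rw [hsplit, hmo, hmα] at hsq
    linarith
  have hR1 : ∑ χ ∈ R, m χ * (charDegree (χ : G → ℂ) : ℤ) = 271 := by
    rw [hsplit, hmo, hmα, hdo, hdα] at hzero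
    push_cast at hzero
    linarith
  -- the degrees of the rest
  have hprop : ∀ χ ∈ R, m χ ≠ 0 → 51 ≤ charDegree (χ : G → ℂ) ∧ charDegree (χ : G → ℂ) < 31912 ∧
      charDegree (χ : G → ℂ) ∣ 78336000 ∧ ¬ 9 ∣ charDegree (χ : G → ℂ) := by
    intro χ hχ hmχ
    have h1 : (χ : G → ℂ) ≠ 1 := by
      intro h1
      have h2 : χ = o := Subtype.ext h1
      exact (Finset.mem_erase.1 (Finset.mem_erase.1 hχ).2).1 h2
    have h2 := Blocks.Knorr.charDegree_dvd χ.2
    have h3 : ¬ 13 ∣ charDegree (χ : G → ℂ) := fun h => hmχ (hm0 χ h)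
    refine ⟨hmin χ h1, ?_, ?_, hcon χ⟩
    · have h4 : charDegree (χ : G → ℂ) ^ 2 ≤ Nat.card G := charDegree_sq_le χ
      rw [hG] at h4
      by_contra h5
      push Not at h5
      have h6 := Nat.pow_le_pow_left h5 2
      omega
    · rw [hG, show 1018368000 = 13 * 78336000 by norm_num] at h2
      exact ((Nat.Prime.coprime_iff_not_dvd (by norm_num)).2 h3).symm.dvd_of_dvd_mul_left h2
  -- the support
  let S := R.filter fun χ => m χ ≠ 0
  have hS2 : ∑ χ ∈ S, m χ ^ 2 ≤ 2 :=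
    (Finset.sum_le_sum_of_subset_of_nonneg (Finset.filter_subset _ _) fun _ _ _ => sq_nonneg _).trans hR2
  have hS1 : ∑ χ ∈ S, m χ * (charDegree (χ : G → ℂ) : ℤ) = 271 := by
    rw [← hR1, Finset.sum_filter]
    refine Finset.sum_congr rfl fun χ _ => ?_
    split_ifs with h1
    · rfl
    · rw [not_not.1 h1, zero_mul]
  have hSm : ∀ χ ∈ S, 1 ≤ m χ ^ 2 := fun χ hχ => by
    have := (Finset.mem_filter.1 hχ).2
    have h1 : 0 < m χ ^ 2 := by positivity
    omega
  have hcard : S.card ≤ 2 := by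
    have h1 : ((S.card : ℕ) : ℤ) ≤ ∑ χ ∈ S, m χ ^ 2 := by
      rw [Finset.card_eq_sum_ones]
      push_cast
      exact Finset.sum_le_sum hSm
    have h2 := h1.trans hS2
    exact_mod_cast h2
  have hpm : ∀ k : ℤ, k ≠ 0 → k ^ 2 ≤ 2 → k = 1 ∨ k = -1 := by
    intro k hk h2
    have h3 : k ≤ 1 := by nlinarith
    have h4 : -1 ≤ k := by nlinarith
    omega
  have hcases : S.card = 0 ∨ S.card = 1 ∨ S.card = 2 := by omega
  rcases hcases with h0 | h1 | h2
  · rw [Finset.card_eq_zero.1 h0, Finset.sum_empty] at hS1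
    exact absurd hS1 (by norm_num)
  · obtain ⟨χ, hχ⟩ := Finset.card_eq_one.1 h1
    have hmem : χ ∈ S := by rw [hχ]; exact Finset.mem_singleton_self χ
    rw [hχ, Finset.sum_singleton] at hS1 hS2
    obtain ⟨hχR, hχ0⟩ := Finset.mem_filter.1 hmem
    obtain ⟨p1, p2, p3, p4⟩ := hprop χ hχR hχ0
    rcases hpm _ hχ0 hS2 with h3 | h3
    · rw [h3, one_mul] at hS1
      have h4 : charDegree (χ : G → ℂ) = 271 := by exact_mod_cast hS1
      rw [h4] at p3
      exact absurd p3 (by norm_num)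
    · rw [h3] at hS1
      omega
  · obtain ⟨χ, ψ, hne, hχ⟩ := Finset.card_eq_two.1 h2
    have hmem : χ ∈ S := by rw [hχ]; exact Finset.mem_insert_self _ _
    have hmem' : ψ ∈ S := by rw [hχ]; exact Finset.mem_insert_of_mem (Finset.mem_singleton_self _)
    rw [hχ, Finset.sum_pair hne] at hS1 hS2
    have s1 := hSm χ hmem
    have s2 := hSm ψ hmem'
    obtain ⟨hχR, hχ0⟩ := Finset.mem_filter.1 hmem
    obtain ⟨hψR, hψ0⟩ := Finset.mem_filter.1 hmem'
    obtain ⟨p1, p2, p3, p4⟩ := hprop χ hχR hχ0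
    obtain ⟨r1, r2, r3, r4⟩ := hprop ψ hψR hψ0
    obtain ⟨n1, n2⟩ := no_pair p1 p2 p3 p4 r1 r3 r4
    obtain ⟨n3, n4⟩ := no_pair r1 r2 r3 r4 p1 p3 p4
    rcases hpm _ hχ0 (by linarith) with h3 | h3 <;> rcases hpm _ hψ0 (by linarith) with h4 | h4 <;>
      rw [h3, h4] at hS1 <;> omega

/-- **9 divides a degree** -/
theorem main [Finite G] (hG : Nat.card G = 1018368000) {x : G} (hx : orderOf x = 13)
    (hcomm : ∀ a ∈ centralizer ({x} : Set G), ∀ b ∈ centralizer ({x} : Set G), a * b = b * a)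
    (hN : Nat.card (normalizer (zpowers x : Set G)) ≤ 3 * Nat.card (centralizer ({x} : Set G)))
    (hmin : ∀ χ : IrrCharacter G, (χ : G → ℂ) ≠ 1 → 51 ≤ charDegree (χ : G → ℂ))
    (α β : IrrCharacter G) (hα : (α : G → ℂ) 1 = (272 : ℕ)) (hβ : (β : G → ℂ) 1 = (832 : ℕ))
    (hfix : ∀ t : G, (∃ j : ℕ, x ∈ zpowers (t ^ j)) → 1 + (α : G → ℂ) t + (β : G → ℂ) t = 0) :
    ∃ χ : IrrCharacter G, 9 ∣ charDegree (χ : G → ℂ) := by
  have h169 : ¬ 13 ^ 2 ∣ Nat.card G := by rw [hG]; norm_num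
  obtain ⟨B, h, θ, hBx, hθB, hθ1, hreg⟩ := exists_tor hx h169 hcomm
  have hord : ∀ s ∈ zpowers x, s ≠ 1 → orderOf s = 13 := by
    intro s hs hs1
    have h1 : orderOf s ∣ 13 := by
      obtain ⟨i, hi⟩ := mem_zpowers_iff.1 hs
      rw [← hi]
      apply orderOf_dvd_of_pow_eq_one
      rw [← zpow_natCast, ← zpow_mul, mul_comm, zpow_mul, zpow_natCast]
      have : x ^ 13 = 1 := by rw [← hx, pow_orderOf_eq_one]
      rw [this, one_zpow]
    exact ((Nat.dvd_prime (by norm_num)).1 h1).resolve_left fun h => hs1 (orderOf_eq_one_iff.1 h)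
  refine main_of hG h hN θ hθB hθ1 hreg (fun t ht htB => ?_) hmin α β hα hβ fun t ht htB => ?_
  · obtain ⟨j, hj, hj1⟩ := hBx t ht htB
    rw [← hord _ hj hj1]
    exact orderOf_pow_dvd j
  · obtain ⟨j, hj, hj1⟩ := hBx t ht htB
    refine hfix t ⟨j, ?_⟩
    have h1 : zpowers (t ^ j) = zpowers x := by
      apply eq_of_le_of_card_ge (zpowers_le.2 hj)
      rw [Nat.card_zpowers, Nat.card_zpowers, hx, hord _ hj hj1]
    rw [h1]
    exact mem_zpowers x

end chars

end Cfsg.Agent.H279.Sq.UFour
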