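import Cfsg.Agent.H279.Sq.FourChar
import Cfsg.Agent.H113.PSU.Chars
import Cfsg.Agent.H33.IM
import Cfsg.Agent.S2335
import Cfsg.Agent.S0280
import Cfsg.Agent.LieClassical.HermPerfect

/-!
# `PSU_4(4)` has a degree divisible by 9 (helper279)
-/

set_option autoImplicit false
set_option linter.unusedSectionVars false

open Module Subgroup Cfsg

namespace Cfsg.Agent.H279.Sq.UFour

open Cfsg.Agent.LieClassical.HermBasic Cfsg.Agent.LieClassical.HermSiegel
open Cfsg.Agent.H690.Spor.RankThree Cfsg.Agent.H690.Spor.RankThree.R3 Cfsg.Agent.H113.PSU.Points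

universe u

variable {F : Type u} [Field F] [Fintype F]

/-- the natural representation -/
def nat (n : ℕ) (F : Type u) [Field F] (q : ℕ) : SU n F q →* Module.End F (Fin n → F) where
  toFun := lin
  map_one' := LinearMap.ext fun v => act_one v
  map_mul' g h := LinearMap.ext fun v => act_mul g h v

theorem nat_injective {n q : ℕ} : Function.Injective (nat n F q) := fun g h hgh =>
  ext_act fun v => LinearMap.congr_fun hgh v

theorem center_eq (hF : Fintype.card F = 4 ^ 2) : center (SU 4 F 4) = ⊥ := by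
  rw [eq_bot_iff]
  intro z hz
  obtain ⟨c, hcn, hcq, rfl⟩ := (Cfsg.Agent.LieClassical.SUBasic.mem_center_SU_iff hF (by norm_num) z).1 hz
  rw [mem_bot]
  apply ext_act
  intro v
  rw [Cfsg.Agent.ClassicalGeometry.PSUAutBasic.act_suScalar hcn hcq v, act_one]
  have h1 : c = 1 := by
    have h2 : c ^ (4 + 1) = 1 := hcq
    rw [pow_succ, hcn, one_mul] at h2
    exact h2
  rw [h1, one_smul]

/-- `SU_4(4) ≃ PSU_4(4)` -/
theorem exists_equiv (hF : Fintype.card F = 4 ^ 2) : Nonempty (PSU 4 F 4 ≃* SU 4 F 4) :=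
  ⟨(QuotientGroup.quotientMulEquivOfEq (center_eq hF)).trans QuotientGroup.quotientBot⟩

theorem card_SU (hF : Fintype.card F = 4 ^ 2) : Nat.card (SU 4 F 4) = 1018368000 := by
  obtain ⟨e⟩ := exists_equiv hF
  rw [← Nat.card_congr e.toEquiv]
  have h := Cfsg.Agent.S0280.result hF 4 (by norm_num)
  rw [show Nat.gcd 4 (4 + 1) = 1 by decide] at h
  simp only [Finset.prod_range_succ, Finset.prod_range_zero] at h
  norm_num [Nat.even_iff] at h
  omega

/-- one dimensional representations -/
theorem eq_one_of_perfect {G : Type u} [Group G] (hG : commutator G = ⊤)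
    (ρ : Representation ℂ G (Fin 1 → ℂ)) (g : G) : ρ g = 1 := by
  have hcomm : ∀ a b : Module.End ℂ (Fin 1 → ℂ), a * b = b * a := by
    intro a b
    have h1 : ∀ c : Module.End ℂ (Fin 1 → ℂ), ∃ μ : ℂ, c = μ • 1 := by
      intro c
      refine ⟨c 1 0, ?_⟩
      apply LinearMap.ext
      intro v
      have h2 : v = v 0 • (1 : Fin 1 → ℂ) := by
        ext i
        rw [Subsingleton.elim i 0]
        simp
      rw [h2, map_smul, map_smul]
      congr 1
      ext i
      rw [Subsingleton.elim i 0]
      simp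
    obtain ⟨μ, rfl⟩ := h1 a
    obtain ⟨ν, rfl⟩ := h1 b
    rw [smul_mul_smul_comm, smul_mul_smul_comm, mul_comm μ ν]
  let R : Subgroup G := MonoidHom.ker ρ
  have hR : R = ⊤ := by
    rw [eq_top_iff, ← hG, commutator_def, Subgroup.commutator_le]
    intro x _ y _
    apply (MonoidHom.mem_ker).2
    rw [commutatorElement_def]
    have h1 : x * y * x⁻¹ * y⁻¹ = (x * y) * (y * x)⁻¹ := by group
    have h2 : ρ (x * y) = ρ (y * x) := by rw [map_mul, map_mul, hcomm]
    rw [h1, map_mul, h2, ← map_mul, mul_inv_cancel, map_one]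
  have h1 : g ∈ R := by rw [hR]; trivial
  exact (MonoidHom.mem_ker).1 h1

theorem min_deg (hF : Fintype.card F = 4 ^ 2) (χ : IrrCharacter (SU 4 F 4)) (hχ : (χ : SU 4 F 4 → ℂ) ≠ 1) :
    51 ≤ charDegree (χ : SU 4 F 4 → ℂ) := by
  classical
  have h1 := Blocks.Basic.irr_one_eq_charDegree χ.2
  obtain ⟨k, ρ, hρ, hk⟩ := χ.2
  have h2 : ρ.character 1 = _ := Representation.char_one ρ
  rw [hk, h1, Module.finrank_fin_fun] at h2
  have h3 : charDegree (χ : SU 4 F 4 → ℂ) = k := by exact_mod_cast h2
  have h0 : 0 < charDegree (χ : SU 4 F 4 → ℂ) := Blocks.Basic.charDegree_pos χ.2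
  rw [h3] at h0 ⊢
  rcases Nat.lt_or_ge k 2 with h4 | h4
  · exfalso
    have h5 : k = 1 := by omega
    subst h5
    apply hχ
    rw [← hk]
    funext g
    have h6 := eq_one_of_perfect (Cfsg.Agent.LieClassical.HermPerfect.commutator_SU_eq_top hF (by norm_num) (by norm_num)) ρ g
    change LinearMap.trace ℂ _ (ρ g) = 1
    rw [h6, LinearMap.trace_one, Module.finrank_fin_fun]
    simp
  · have h5 := Cfsg.Agent.S2335.result 4 4 le_rfl (by decide) hF (by decide) k ρ hρ h4
    norm_num at h5
    exact h5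

/-- no isotropic point is fixed by an element of order 13 -/
theorem no_fix (hF : Fintype.card F = 4 ^ 2) {x : SU 4 F 4} (hx : orderOf x = 13) (hc : Nat.card (Pt 4 F 4) = 1105)
    (y : Pt 4 F 4) : x • y ≠ y := by
  classical
  intro hy
  have hF16 : Fintype.card F = 16 := by rw [hF]; norm_num
  have : Fact (Nat.Prime 13) := ⟨by norm_num⟩
  have hx13 : x ^ 13 = 1 := by rw [← hx, pow_orderOf_eq_one]
  have : Finite (Pt 4 F 4) := Nat.finite_of_card_ne_zero (by rw [hc]; norm_num)
  let _ : Fintype (Pt 4 F 4) := Fintype.ofFinite _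
  let f : Function.End (Pt 4 F 4) := fun p => x • p
  have hf : ∀ (n : ℕ) (p : Pt 4 F 4), (f ^ n) p = x ^ n • p := by
    intro n
    induction n with
    | zero => intro p; rw [pow_zero, pow_zero, one_smul]; rfl
    | succ n ih =>
      intro p
      rw [pow_succ, pow_succ, mul_smul]
      change (f ^ n) (x • p) = _
      rw [ih]
  have hf13 : f ^ 13 ^ 1 = 1 := by
    funext p
    rw [pow_one, hf, hx13, one_smul]; rfl
  have h1 := Equiv.Perm.card_fixedPoints_modEq hf13
  rw [← Nat.card_eq_fintype_card (α := Pt 4 F 4), hc] at h1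
  -- a fixed point is the kernel of `x - 1`
  have hX13 := X_pow (nat 4 F 4) hx
  have hX1 := X_ne (nat 4 F 4) nat_injective hx
  have hker := finrank_ker hF16 (by simp) hX13 hX1
  have hfix : ∀ p : Pt 4 F 4, x • p = p → p.1 = LinearMap.ker (nat 4 F 4 x - 1) := by
    intro p hp
    obtain ⟨v, h0, hv, rfl⟩ := exists_pt p
    rw [smul_pt, pt_eq_iff] at hp
    obtain ⟨c, hc0, hc⟩ := hp
    have h2 : ∀ n : ℕ, act (x ^ n) v = c ^ n • v := by
      intro n
      induction n with
      | zero => rw [pow_zero, pow_zero, act_one, one_smul]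
      | succ n ih => rw [pow_succ, act_mul, hc, act_smul, ih, smul_smul, pow_succ, mul_comm]
    have h3 : c ^ 13 = 1 := by
      have h4 := h2 13
      rw [hx13, act_one] at h4
      have h5 : (c ^ 13 - 1) • v = 0 := by rw [sub_smul, one_smul, ← h4, sub_self]
      exact sub_eq_zero.1 ((smul_eq_zero.1 h5).resolve_right h0)
    have h4 : c ^ 15 = 1 := by
      have := FiniteField.pow_card_sub_one_eq_one c hc0
      rwa [hF16] at this
    have h5 : c = 1 := by
      have h6 : c ^ (13 * 7) = 1 := by rw [pow_mul, h3, one_pow]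
      have h7 : c ^ (15 * 6) = 1 := by rw [pow_mul, h4, one_pow]
      rw [show 13 * 7 = 15 * 6 + 1 by norm_num, pow_succ, h7, one_mul] at h6
      exact h6
    rw [h5, one_smul] at hc
    apply Submodule.eq_of_le_of_finrank_eq
    · change Submodule.span F {v} ≤ _
      rw [Submodule.span_singleton_le_iff_mem, LinearMap.mem_ker, LinearMap.sub_apply]
      change act x v - v = 0
      rw [hc, sub_self]
    · rw [hker]
      change finrank F (Submodule.span F {v}) = 1
      exact finrank_span_singleton h0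
  have h2 : Fintype.card (Function.fixedPoints f) = 1 := by
    rw [Fintype.card_eq_one_iff]
    refine ⟨⟨y, hy⟩, fun p => ?_⟩
    apply Subtype.ext
    apply Subtype.ext
    rw [hfix p.1 p.2, hfix y hy]
  rw [h2] at h1
  exact absurd h1 (by decide)

/-- **`PSU_4(4)` has a degree divisible by 9.** -/
theorem im_nine (hF : Fintype.card F = 4 ^ 2) : H33.IM (3 ^ 2) (PSU 4 F 4) := by
  classical
  obtain ⟨e⟩ := exists_equiv hF
  have hF16 : Fintype.card F = 16 := by rw [hF]; norm_num
  have hcard := card_SU hF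
  have : Finite (SU 4 F 4) := Nat.finite_of_card_ne_zero (by rw [hcard]; norm_num)
  have : Fact (Nat.Prime 13) := ⟨by norm_num⟩
  obtain ⟨x, hx⟩ := exists_prime_orderOf_dvd_card' (G := SU 4 F 4) 13 (by rw [hcard]; norm_num)
  have hV : finrank F (Fin 4 → F) = 4 := by simp
  -- the rank 3 characters
  obtain ⟨b, hb0, hb, hr3, x₀, y₀, hxy, hR, hcom⟩ := H113.PSU.Points.r3 (F := F) (q := 4) (m := 2) hF le_rfl
  have hb5 : b = 5 := by
    norm_num at hb
    have : (b : ℤ) = 5 := by linarith
    exact_mod_cast this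
  subst hb5
  have hc : Nat.card (Pt 4 F 4) = 1105 := by
    have := hr3.cardn
    norm_num at this
    exact this
  have : Finite (Pt 4 F 4) := Nat.finite_of_card_ne_zero (by rw [hc]; norm_num)
  let _ : Fintype (Pt (2 + 2) F 4) := Fintype.ofFinite (Pt 4 F 4)
  obtain ⟨α, β, f, g, hf, hg, h1, h2, h3, -⟩ := H113.PSU.Rank3.frame_exact hr3 hxy hR hcom (r := 15) (s := -5)
    (by norm_num) (by norm_num) (by norm_num)
  have hf' : f = 272 := by
    norm_num at h1
    have : (f : ℤ) = 272 := by linarith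
    exact_mod_cast this
  have hg' : g = 832 := by
    norm_num at h2
    have : (g : ℤ) = 832 := by linarith
    exact_mod_cast this
  subst hf' hg'
  obtain ⟨χ, hχ⟩ := main hcard hx (T_comm hF16 hV (nat 4 F 4) nat_injective hx)
    (card_N_le hF16 hV (nat 4 F 4) nat_injective hx) (min_deg hF) α β hf hg (by
      rintro t ⟨j, hj⟩
      have h4 : Nat.card (MulAction.fixedBy (Pt 4 F 4) t) = 0 := by
        have : IsEmpty (MulAction.fixedBy (Pt 4 F 4) t) := by
          refine ⟨fun y => no_fix hF hx hc y.1 ?_⟩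
          obtain ⟨i, hi⟩ := mem_zpowers_iff.1 hj
          have h5 : t • y.1 = y.1 := y.2
          have h6 : t ∈ MulAction.stabilizer (SU 4 F 4) y.1 := h5
          have h7 : x ∈ MulAction.stabilizer (SU 4 F 4) y.1 := by
            rw [← hi]
            exact zpow_mem (pow_mem h6 j) i
          exact h7
        exact Nat.card_of_isEmpty
      have h5 := h3 t
      rw [h4, Nat.cast_zero] at h5
      exact h5.symm)
  exact H33.IM.of_equiv e ⟨χ, by norm_num; exact hχ⟩

end Cfsg.Agent.H279.Sq.UFour
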