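import Cfsg.Agent.H279.Sq.Arith
import Cfsg.Agent.H664.R1.U3IM

/-!
# S4844: `PSU_3(q)`, not the characteristic (helper279)

`case_three` : all cases but `p ∥ q + 1`, `p ≥ 5`; degrees `q ^ 3 + 1` and a multiple of `q - 1` (helper664).
-/

set_option autoImplicit false

namespace Cfsg.Agent.H279.Sq

open Cfsg Cfsg.Agent.H113.PSU.Levi Cfsg.Agent.H113.PSU.Facts

universe u

/-- an odd prime does not divide both `q - 1` and `q ^ 3 + 1` -/
theorem not_both {p q : ℕ} (hp : p.Prime) (hp2 : p ≠ 2) (h1 : p ∣ q - 1) (hq : 1 ≤ q) : ¬ p ∣ q ^ 3 + 1 := by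
  intro h
  obtain ⟨k, rfl⟩ : ∃ k, q = k + 1 := ⟨q - 1, by omega⟩
  rw [Nat.add_sub_cancel] at h1
  have h2 : (k + 1) ^ 3 + 1 = k * (k ^ 2 + 3 * k + 3) + 2 := by ring
  rw [h2, Nat.dvd_add_right (h1.mul_right _)] at h
  exact hp2 ((Nat.prime_dvd_prime_iff_eq hp Nat.prime_two).1 h)

theorem nine_dvd {q : ℕ} (h : 3 ∣ q + 1) : 3 ^ 2 ∣ q ^ 3 + 1 := by
  obtain ⟨k, hk⟩ := h
  obtain ⟨j, rfl⟩ : ∃ j, k = j + 1 := ⟨k - 1, by omega⟩
  have h1 : q = 3 * j + 2 := by omega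
  subst h1
  exact ⟨3 * j ^ 3 + 6 * j ^ 2 + 4 * j + 1, by ring⟩

theorem three_case {F : Type u} [Field F] [Fintype F] {q p : ℕ} (hF : Fintype.card F = q ^ 2) (hq3 : 3 ≤ q)
    (hp : p.Prime) (hp2 : p ≠ 2) (hpq : ¬ p ∣ q) (hd : p ^ 2 ∣ Nat.card (PSU 3 F q))
    (h : p ∣ q + 1 → ¬ p ^ 2 ∣ q + 1 → 5 ≤ p → H33.IM (p ^ 2) (PSU 3 F q)) : H33.IM (p ^ 2) (PSU 3 F q) := by
  obtain ⟨⟨χ, hχ⟩, h2⟩ := H664.R1.U3.degrees hF hq3 (MulEquiv.refl (PSU 3 F q))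
  by_cases h3 : p ^ 2 ∣ q ^ 3 + 1
  · exact ⟨χ, by rw [hχ]; exact h3⟩
  have h4 : q + 1 ∣ q ^ 3 + 1 := by
    rw [← uu_three]
    exact succ_dvd_uu (by omega) 3
  by_cases h1 : p ∣ q + 1
  · have hp3 : p ≠ 3 := by
      rintro rfl
      exact h3 (nine_dvd h1)
    refine h h1 (fun h5 => h3 (h5.trans h4)) ?_
    have := hp.two_le
    by_contra h6
    have : p = 4 := by omega
    subst this
    exact absurd hp (by norm_num)
  · have h5 := order_dvd hF (by omega) hp hpq hd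
    have h6 : ∏ i ∈ Finset.range 3, uu q (i + 1) = uu q 1 * (uu q 2 * uu q 3) := by
      simp only [Finset.prod_range_succ, Finset.prod_range_zero, one_mul]
      ring
    rw [h6, uu_one, uu_two, uu_three, Cfsg.Agent.H113.PSU.Facts.sq_sub (q := q) (by omega)] at h5
    have h7 := sq_dvd_of_mul hp h1 h5
    rw [mul_comm (q - 1), mul_assoc] at h7
    have h8 := sq_dvd_of_mul hp h1 h7
    by_cases h9 : p ∣ q - 1
    · have h10 := sq_dvd_of_mul' hp (not_both hp hp2 h9 (by omega)) h8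
      obtain ⟨r, hr, -, -⟩ := Cfsg.Agent.H113.PSU.Facts.prime_pow hF
      obtain ⟨r, k, hr, hk, hqk⟩ : ∃ r k, r.Prime ∧ 0 < k ∧ q = r ^ k := by
        obtain ⟨r, hr, hc, -⟩ := Cfsg.Agent.H113.PSU.Facts.prime_pow hF
        have : Fact r.Prime := ⟨hr⟩
        obtain ⟨s, hs0, hs⟩ := FiniteField.card F r
        rw [hF] at hs
        have h11 : q ∣ r ^ (s : ℕ) := by rw [← hs]; exact dvd_pow_self _ two_ne_zero
        obtain ⟨k, -, hk⟩ := (Nat.dvd_prime_pow hr).1 h11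
        refine ⟨r, k, hr, ?_, hk⟩
        rcases Nat.eq_zero_or_pos k with h0 | h0
        · rw [h0, pow_zero] at hk; omega
        · exact h0
      obtain ⟨n, ⟨φ, hφ⟩, hn⟩ := h2 hr hqk
      exact ⟨φ, by rw [hφ]; exact (h10.mul_left _).trans hn⟩
    · exact absurd (sq_dvd_of_mul hp h9 h8) h3

end Cfsg.Agent.H279.Sq
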