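import Cfsg.Agent.H279.Sq.Seven
import Cfsg.Agent.H279.Sq.Own
import Cfsg.Agent.H279.Sq.Three
import Cfsg.Agent.H279.Sq.FourMain

/-!
# S4844: the unitary groups (helper279)

`sq_psu_of` : the row, with the cases `PSU_3(q)`, `p ∥ q + 1`, `p ≥ 5` and `PSU_4(q)`, `q ≠ 4`, `PSU_5(q)`,
`p ∥ q - 1` as hypotheses.
-/

set_option autoImplicit false

namespace Cfsg.Agent.H279.Sq

open Cfsg Cfsg.Agent.H113.PSU.Levi

universe u

/-- `PSU_3(q)`, `p ∥ q + 1`, `p ≥ 5` -/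
def HypThree : Prop := ∀ (F : Type) [Field F] [Fintype F] (q p : ℕ), Fintype.card F = q ^ 2 → 3 ≤ q → p.Prime → 5 ≤ p →
  p ∣ q + 1 → ¬ p ^ 2 ∣ q + 1 → H33.IM (p ^ 2) (PSU 3 F q)

/-- `PSU_4(q)`, `q ≠ 4`, `PSU_5(q)`, `p ∥ q - 1` -/
def HypFour : Prop := ∀ (F : Type) [Field F] [Fintype F] (n q p : ℕ), Fintype.card F = q ^ 2 →
  (n = 4 ∧ q ≠ 4) ∨ n = 5 → p.Prime → p ≠ 2 → p ∣ q - 1 → ¬ p ^ 2 ∣ q - 1 → H33.IM (p ^ 2) (PSU n F q)

/-- **not the characteristic** -/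
theorem psu_of (H3 : HypThree) (H4 : HypFour) {F : Type} [Field F] [Fintype F] {n q p : ℕ} (hF : Fintype.card F = q ^ 2)
    (hn : 3 ≤ n) (hnq : ¬ (n = 3 ∧ q = 2)) (hp : p.Prime) (hp2 : p ≠ 2) (hpq : ¬ p ∣ q)
    (hd : p ^ 2 ∣ Nat.card (PSU n F q)) : H33.IM (p ^ 2) (PSU n F q) := by
  have hq2 := LieClassical.HermBasic.two_le hF
  by_cases h3 : n = 3
  · subst h3
    exact three_case hF (by omega) hp hp2 hpq hd fun h1 h2 h5 => H3 F q p hF (by omega) hp h5 h1 h2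
  · refine gen_case hF (by omega) hp hpq hd (fun h45 h1 _ => ?_) (fun h7 h1 h2 => ?_)
    · by_cases h2 : p ^ 2 ∣ q - 1
      · refine im_of_prod hF (by omega) (k := 2) le_rfl (by omega) ?_
        refine (?_ : p ^ 2 ∣ uu q 2).trans (Finset.dvd_prod_of_mem (fun i => uu q (i + 2)) (Finset.mem_range.2 (by norm_num : 0 < 2 * 2 - 2)))
        rw [uu_two, Cfsg.Agent.H113.PSU.Facts.sq_sub (q := q) (by omega)]
        exact h2.mul_right _
      · by_cases h44 : n = 4 ∧ q = 4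
        · obtain ⟨rfl, rfl⟩ := h44
          have h3 : p = 3 := (Nat.prime_dvd_prime_iff_eq hp Nat.prime_three).1 h1
          subst h3
          exact UFour.im_nine hF
        · exact H4 F n q p hF (by omega) hp hp2 h1 h2
    · subst h7
      exact case_seven hF hp h1 h2

/-- **The row of S4844 for the unitary groups** (two hypotheses) -/
theorem sq_psu_of (H3 : HypThree) (H4 : HypFour) {S : Type u} [Group S] [Finite S] (h : Cfsg.IsPSU S)
    (hs : IsSimpleGroup S) {p : ℕ} [hp : Fact p.Prime] (hp2 : p ≠ 2) (hd : p ^ 2 ∣ Nat.card S) :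
    Cfsg.Agent.H33.IM (p ^ 2) S := by
  obtain ⟨F, i1, i2, n, q, hF, hn, hnq, ⟨e⟩⟩ := h
  by_cases hpq : p ∣ q
  · obtain ⟨r, hr, hc, h1⟩ := Cfsg.Agent.H113.PSU.Facts.prime_pow hF
    have h2 := (h1 p hp.out).1 hpq
    subst h2
    exact sq_own hp.out (Or.inr (Or.inr (Or.inl ⟨F, i1, i2, hc, n, q, hF, hn, hnq, ⟨e⟩⟩))) hd
  · exact (psu_of H3 H4 hF hn hnq hp.out hp2 hpq (by rwa [← Nat.card_congr e.toEquiv])).of_equiv e

end Cfsg.Agent.H279.Sq
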