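import Mathlib
import Cfsg.Agent.H279.Sq.Main
import Cfsg.Agent.H113.Cusp.Psu
import Cfsg.Agent.H311.SQ.Three

/-!
# S4844: the unitary groups (helper279), complete

`sq_psu` : `PSU_n(q)` has an irreducible character of degree divisible by `p²` for every odd prime `p` with
`p² ∣ |PSU_n(q)|` (the cases of helper311, helper113 put in).
-/

set_option autoImplicit false

namespace Cfsg.Agent.H279.Sq

open Cfsg

universe u

/-- **The row of S4844 for the unitary groups** -/
theorem sq_psu {S : Type u} [Group S] [Finite S] (h : Cfsg.IsPSU S) (hs : IsSimpleGroup S) {p : ℕ}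
    [hp : Fact p.Prime] (hp2 : p ≠ 2) (hd : p ^ 2 ∣ Nat.card S) : Cfsg.Agent.H33.IM (p ^ 2) S :=
  sq_psu_of Cfsg.Agent.H311.SQ.hyp_three
    (fun F _ _ _ _ _ hF hn hp hp2 hpq _ => Cfsg.Agent.H113.Cusp.Torus.hyp_four (K := F) hF hn hp hp2 hpq) h hs hp2 hd

end Cfsg.Agent.H279.Sq
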